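import Cfsg.Agent.Techniques.QuadOffender.Step
import Mathlib.Data.Set.Finite.Lemmas
import Mathlib.Algebra.Group.Subgroup.Finite
import Mathlib.GroupTheory.Nilpotent
import Mathlib.Order.Atoms
import Mathlib.Data.ZMod.Basic
import Mathlib.Data.Fintype.Prod

/-!
# A quadratic offender normal in its normal closure

The iteration of the replacement step, and the representation of a group normalizing an elementary
abelian subgroup `V` inside `End (V × ZMod p)`.
-/

set_option autoImplicit false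

namespace CfsgLib.Techniques.QuadOffender

section Iteration

variable {R : Type*} [Ring R] [Finite R] {G : Type*} [Group G] [Finite G] {ρ : G →* R} {p : ℕ}
  [hp : Fact p.Prime]

/-- The subgroup generated by the `H`-conjugates of `A`. -/
def cl (H A : Subgroup G) : Subgroup G := Subgroup.closure {x | ∃ h ∈ H, ∃ a ∈ A, x = h * a * h⁻¹}

omit [Finite G] in
theorem cl_le {H A : Subgroup G} (hAH : A ≤ H) : cl H A ≤ H :=
  (Subgroup.closure_le _).mpr fun _ ⟨_, hh, _, ha, hx⟩ =>
    hx ▸ H.mul_mem (H.mul_mem hh (hAH ha)) (H.inv_mem hh)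

omit [Finite G] in
theorem le_cl {H A : Subgroup G} : A ≤ cl H A :=
  fun a ha => Subgroup.subset_closure ⟨1, H.one_mem, a, ha, by simp⟩

theorem le_normalizer_cl {H A : Subgroup G} : H ≤ Subgroup.normalizer (cl H A : Set G) := by
  intro x hx
  refine Subgroup.mem_normalizer_fintype fun n hn => ?_
  have : (cl H A).map (MulAut.conj x).toMonoidHom ≤ cl H A := by
    rw [cl, MonoidHom.map_closure, Subgroup.closure_le]
    rintro _ ⟨_, ⟨h, hh, a, ha, rfl⟩, rfl⟩
    exact Subgroup.subset_closure ⟨x * h, H.mul_mem hx hh, a, ha, by simp [mul_assoc]⟩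
  exact this ⟨n, hn, rfl⟩

theorem exists_higher_of_not_normal (hρ : Function.Injective ρ) (hp2 : p ≠ 2) (hp0 : (p : R) = 0)
    (hG : IsPGroup p G) {col : AddSubgroup R} (hcol : ∀ g : G, ∀ x ∈ col, ρ g * x * ρ g⁻¹ ∈ col)
    {A : Subgroup G} (hA : Quad ρ A) : ∀ H : Subgroup G, A ≤ H →
      ¬ cl H A ≤ Subgroup.normalizer (A : Set G) →
      ∃ A' : Subgroup G, Quad ρ A' ∧ A' ≠ ⊥ ∧
        Nat.card A * Nat.card (fixCol ρ col A) ≤ Nat.card A' * Nat.card (fixCol ρ col A') ∧
        height ρ A < height ρ A' := by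
  intro H
  induction hn : Nat.card H using Nat.strong_induction_on generalizing H with
  | _ n ih => ?_
  subst hn
  intro hAH hnot
  have hKH : cl H A < H := by
    refine lt_of_le_of_ne (cl_le hAH) fun heq => ?_
    rcases eq_or_ne A H with h | h
    · exact hnot ((cl_le hAH).trans (h ▸ Subgroup.le_normalizer))
    · haveI := (hG.to_subgroup H).isNilpotent
      have htop : A.subgroupOf H ≠ ⊤ := fun ht => h (le_antisymm hAH (Subgroup.subgroupOf_eq_top.mp ht))
      obtain ⟨M, hM, hAM⟩ := (eq_top_or_exists_le_coatom (A.subgroupOf H)).resolve_left htop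
      have hMn : M.Normal :=
        Subgroup.NormalizerCondition.normal_of_coatom M Group.normalizerCondition_of_isNilpotent hM
      refine hM.1 (top_unique fun x _ => ?_)
      have hle : cl H A ≤ M.map H.subtype := (Subgroup.closure_le _).mpr (by
        rintro _ ⟨k, hk, a, ha, rfl⟩
        exact ⟨⟨k, hk⟩ * ⟨a, hAH ha⟩ * ⟨k, hk⟩⁻¹, hMn.conj_mem _ (hAM ha) _, rfl⟩)
      obtain ⟨y, hy, hyx⟩ := hle (show (x : G) ∈ cl H A by rw [heq]; exact x.2)
      exact (Subtype.ext hyx : y = x) ▸ hy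
  by_cases hK1 : cl (cl H A) A ≤ Subgroup.normalizer (A : Set G)
  · obtain ⟨h, hh, a, ha, hb⟩ : ∃ h ∈ H, ∃ a ∈ A, h * a * h⁻¹ ∉ Subgroup.normalizer (A : Set G) := by
      by_contra! hall
      exact hnot ((Subgroup.closure_le _).mpr fun _ ⟨h, hh, a, ha, hx⟩ => hx ▸ hall h hh a ha)
    have hbK : h * a * h⁻¹ ∈ cl H A := Subgroup.subset_closure ⟨h, hh, a, ha, rfl⟩
    obtain ⟨A', -, h2, h3, h4, h5⟩ := exists_higher hρ hp2 hp0 hG hcol hA le_cl hK1
      (le_normalizer_cl hbK) hb (quad_conj hA h _ ⟨a, ha, rfl⟩ _ ⟨a, ha, rfl⟩)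
    exact ⟨A', h2, h3, h4, h5⟩
  · exact ih _ (Set.Finite.card_lt_card (Set.toFinite _) hKH) (cl H A) rfl le_cl hK1

/-- Among quadratic offenders, one is invariant under all conjugates of its elements. -/
theorem exists_conj_invariant (hρ : Function.Injective ρ) (hp2 : p ≠ 2) (hp0 : (p : R) = 0)
    (hG : IsPGroup p G) {col : AddSubgroup R} (hcol : ∀ g : G, ∀ x ∈ col, ρ g * x * ρ g⁻¹ ∈ col)
    {N : ℕ} {A₀ : Subgroup G} (hA₀ : Quad ρ A₀) (hne : A₀ ≠ ⊥)
    (hw : N ≤ Nat.card A₀ * Nat.card (fixCol ρ col A₀)) :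
    ∃ A : Subgroup G, Quad ρ A ∧ A ≠ ⊥ ∧ N ≤ Nat.card A * Nat.card (fixCol ρ col A) ∧
      cl ⊤ A ≤ Subgroup.normalizer (A : Set G) := by
  classical
  let S : Set (Subgroup G) :=
    {A | Quad ρ A ∧ A ≠ ⊥ ∧ N ≤ Nat.card A * Nat.card (fixCol ρ col A)}
  obtain ⟨A, hA, hmax⟩ := Set.exists_max_image S (height ρ) (Set.toFinite _) ⟨A₀, hA₀, hne, hw⟩
  refine ⟨A, hA.1, hA.2.1, hA.2.2, ?_⟩
  by_contra hnot
  obtain ⟨A', h1, h2, h3, h4⟩ := exists_higher_of_not_normal hρ hp2 hp0 hG hcol hA.1 ⊤ le_top hnot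
  exact absurd (hmax A' ⟨h1, h2, hA.2.2.trans h3⟩) (not_le.mpr h4)

end Iteration

theorem elementary_of_quad_ring {R : Type*} [Ring R] {G : Type*} [Group G] {ρ : G →* R} {p : ℕ}
    (hρ : Function.Injective ρ) (hp0 : (p : R) = 0) {A : Subgroup G} (hA : Quad ρ A) :
    (∀ a ∈ A, ∀ b ∈ A, a * b = b * a) ∧ ∀ a ∈ A, a ^ p = 1 := by
  constructor
  · intro a ha b hb
    refine hρ ?_
    rw [map_mul, map_mul]
    calc ρ a * ρ b = (ρ a - 1) * (ρ b - 1) + ρ a + ρ b - 1 := by noncomm_ring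
      _ = (ρ b - 1) * (ρ a - 1) + ρ b + ρ a - 1 := by rw [hA a ha b hb, hA b hb a ha]; abel
      _ = _ := by noncomm_ring
  · intro a ha
    refine hρ ?_
    have h : ∀ n : ℕ, ρ (a ^ n) = 1 + n • (ρ a - 1) := by
      intro n
      induction n with
      | zero => simp
      | succ n ih =>
        rw [pow_succ, map_mul, ih]
        calc (1 + n • (ρ a - 1)) * ρ a = 1 + n • (ρ a - 1) + (ρ a - 1) + (n • (ρ a - 1)) * (ρ a - 1) := by
              noncomm_ring
          _ = _ := by rw [smul_mul_assoc, hA a ha a ha, smul_zero, succ_nsmul]; abel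
    rw [h, nsmul_eq_mul, hp0, zero_mul, add_zero, map_one]

section Representation

open scoped IsMulCommutative commutatorElement

variable {Ω : Type*} [Group Ω] (p : ℕ) [hp : Fact p.Prime] (V G : Subgroup Ω) [IsMulCommutative V]

/-- The module on which the representation lives. -/
abbrev Space := Additive V × ZMod p

variable (hGV : G ≤ Subgroup.normalizer (V : Set Ω))

include hGV in
theorem conj_mem_space (g : G) (m : Additive V) : (g : Ω) * m.toMul * (g : Ω)⁻¹ ∈ V :=
  (Subgroup.mem_normalizer_iff.mp (hGV g.2) _).mp m.toMul.2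

/-- Conjugation on `V`, trivial on `ZMod p`. -/
def rep : G →* AddMonoid.End (Space p V) where
  toFun g := AddMonoidHom.mk'
    (fun z => (Additive.ofMul (⟨(g : Ω) * z.1.toMul * (g : Ω)⁻¹, conj_mem_space V G hGV g z.1⟩ : V), z.2))
    fun z w => Prod.ext (Additive.toMul.injective (Subtype.ext (by simp [mul_assoc]))) rfl
  map_one' := by
    refine AddMonoidHom.ext fun z => ?_
    refine Prod.ext (Additive.toMul.injective (Subtype.ext ?_)) rfl
    show ((1 : G) : Ω) * (z.1.toMul : Ω) * ((1 : G) : Ω)⁻¹ = z.1.toMul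
    simp
  map_mul' g g' := by
    refine AddMonoidHom.ext fun z => ?_
    refine Prod.ext (Additive.toMul.injective (Subtype.ext ?_)) rfl
    show (g : Ω) * g' * (z.1.toMul : Ω) * ((g : Ω) * g')⁻¹ = g * (g' * z.1.toMul * (g' : Ω)⁻¹) * (g : Ω)⁻¹
    simp [mul_assoc]

theorem rep_apply_fst (g : G) (z : Space p V) :
    ((((rep p V G hGV g) z).1).toMul : Ω) = (g : Ω) * z.1.toMul * (g : Ω)⁻¹ := rfl

theorem rep_apply_snd (g : G) (z : Space p V) : ((rep p V G hGV g) z).2 = z.2 := rfl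

theorem rep_injective (hfaith : G ⊓ Subgroup.centralizer (V : Set Ω) = ⊥) :
    Function.Injective (rep p V G hGV) := by
  refine (injective_iff_map_eq_one _).mpr fun g hg => Subtype.ext ?_
  have : (g : Ω) ∈ G ⊓ Subgroup.centralizer (V : Set Ω) := by
    refine ⟨g.2, Subgroup.mem_centralizer_iff.mpr fun v hv => ?_⟩
    have h := congrArg (fun z : Space p V => (z.1.toMul : Ω))
      (DFunLike.congr_fun hg (Additive.ofMul (⟨v, hv⟩ : V), 0))
    simp only [rep_apply_fst] at h
    change (g : Ω) * v * (g : Ω)⁻¹ = v at h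
    exact (mul_inv_eq_iff_eq_mul.mp h).symm
  rwa [hfaith, Subgroup.mem_bot] at this

variable {p V}

theorem nsmul_eq_zero (hexp : ∀ v ∈ V, v ^ p = 1) (m : Additive V) : (p : ℤ) • m = 0 := by
  rw [natCast_zsmul]
  exact Additive.toMul.injective (Subtype.ext (by simpa using hexp _ m.toMul.2))

theorem natCast_eq_zero (hexp : ∀ v ∈ V, v ^ p = 1) : (p : AddMonoid.End (Space p V)) = 0 := by
  refine AddMonoidHom.ext fun z => ?_
  show (p : AddMonoid.End (Space p V)) z = 0
  rw [AddMonoid.End.natCast_apply]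
  refine Prod.ext ?_ ?_
  · simpa using nsmul_eq_zero hexp z.1
  · simp [nsmul_eq_mul]

/-- The endomorphism `(m, s) ↦ (s • v, 0)`. -/
def colMap (hexp : ∀ v ∈ V, v ^ p = 1) (v : Additive V) : AddMonoid.End (Space p V) :=
  (AddMonoidHom.inl _ _).comp
    ((ZMod.lift p ⟨zmultiplesHom _ v, nsmul_eq_zero hexp v⟩).comp (AddMonoidHom.snd _ _))

theorem colMap_apply (hexp : ∀ v ∈ V, v ^ p = 1) (v : Additive V) (z : Space p V) :
    colMap hexp v z = (z.2.val • v, 0) := by
  obtain ⟨m, s⟩ := z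
  refine Prod.ext ?_ rfl
  show ZMod.lift p ⟨zmultiplesHom _ v, nsmul_eq_zero hexp v⟩ s = s.val • v
  have h := ZMod.lift_coe p ⟨zmultiplesHom _ v, nsmul_eq_zero hexp v⟩ (s.val : ℤ)
  rw [Int.cast_natCast, ZMod.natCast_zmod_val] at h
  rw [h]
  exact natCast_zsmul v s.val

theorem colMap_injective (hexp : ∀ v ∈ V, v ^ p = 1) : Function.Injective (colMap (p := p) hexp) := by
  intro v w h
  have := congrArg (fun f : AddMonoid.End (Space p V) => (f (0, 1)).1) h
  simpa [colMap_apply, ZMod.val_one] using this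

/-- The copy of `V` inside the endomorphisms. -/
def col (hexp : ∀ v ∈ V, v ^ p = 1) : AddSubgroup (AddMonoid.End (Space p V)) where
  carrier := Set.range (colMap hexp)
  zero_mem' := ⟨0, AddMonoidHom.ext fun z => by
    show colMap hexp 0 z = 0
    rw [colMap_apply, smul_zero]; rfl⟩
  add_mem' := by
    rintro _ _ ⟨v, rfl⟩ ⟨w, rfl⟩
    refine ⟨v + w, AddMonoidHom.ext fun z => ?_⟩
    show colMap hexp (v + w) z = colMap hexp v z + colMap hexp w z
    simp [colMap_apply]
  neg_mem' := by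
    rintro _ ⟨v, rfl⟩
    refine ⟨-v, AddMonoidHom.ext fun z => ?_⟩
    show colMap hexp (-v) z = -(colMap hexp v z)
    simp [colMap_apply]

variable {G}

theorem rep_conj_col (hexp : ∀ v ∈ V, v ^ p = 1) (g : G) (v : Additive V) :
    rep p V G hGV g * colMap hexp v * rep p V G hGV g⁻¹ = colMap hexp ((rep p V G hGV g (v, 0)).1) := by
  refine AddMonoidHom.ext fun z => ?_
  show rep p V G hGV g (colMap hexp v (rep p V G hGV g⁻¹ z)) = colMap hexp ((rep p V G hGV g (v, 0)).1) z
  rw [colMap_apply, colMap_apply, rep_apply_snd]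
  have h := map_nsmul (rep p V G hGV g) z.2.val ((v, 0) : Space p V)
  simp only [Prod.smul_mk, smul_zero] at h
  rw [h]
  exact Prod.ext rfl (by simp [rep_apply_snd])

/-- `(ρ a - 1) x` in multiplicative terms. -/
theorem sub_one_apply (a : G) (z : Space p V) :
    (((rep p V G hGV a - 1) z).1.toMul : Ω) = ⁅(a : Ω), (z.1.toMul : Ω)⁆ ∧
      ((rep p V G hGV a - 1) z).2 = 0 := by
  have e : (rep p V G hGV a - 1) z = rep p V G hGV a z - z := rfl
  rw [e]
  refine ⟨?_, by simp [rep_apply_snd]⟩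
  rw [Prod.fst_sub, commutatorElement_def]
  simp [rep_apply_fst, div_eq_mul_inv]

/-- The fixed points, as a subgroup of `V`. -/
theorem card_fixCol (hexp : ∀ v ∈ V, v ^ p = 1) (A : Subgroup G) :
    Nat.card (fixCol (rep p V G hGV) (col hexp) A) =
      Nat.card ↥(V ⊓ Subgroup.centralizer ((A.map G.subtype : Subgroup Ω) : Set Ω)) := by
  have hfix : ∀ v : Additive V, colMap hexp v ∈ fixCol (rep p V G hGV) (col hexp) A ↔
      (v.toMul : Ω) ∈ Subgroup.centralizer ((A.map G.subtype : Subgroup Ω) : Set Ω) := by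
    intro v
    rw [Subgroup.mem_centralizer_iff]
    constructor
    · rintro ⟨-, h⟩ _ ⟨a, ha, rfl⟩
      have h1 := congrArg (fun z : Space p V => (z.1.toMul : Ω)) (DFunLike.congr_fun (h a ha) (0, 1))
      change ((((rep p V G hGV a - 1) (colMap hexp v (0, 1))).1).toMul : Ω) = _ at h1
      rw [(sub_one_apply hGV a _).1, colMap_apply] at h1
      simpa [ZMod.val_one, commutatorElement_eq_one_iff_mul_comm] using h1
    · intro h
      refine ⟨⟨v, rfl⟩, fun a ha => AddMonoidHom.ext fun z => ?_⟩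
      show (rep p V G hGV a - 1) (colMap hexp v z) = 0
      refine Prod.ext (Additive.toMul.injective (Subtype.ext ?_)) (sub_one_apply hGV a _).2
      rw [(sub_one_apply hGV a _).1, colMap_apply]
      have hc : Commute (a : Ω) (v.toMul : Ω) := h _ ⟨a, ha, rfl⟩
      simpa [commutatorElement_eq_one_iff_mul_comm] using (hc.pow_right z.2.val).eq
  refine (Nat.card_congr (Equiv.ofBijective
    (fun v => ⟨colMap hexp (Additive.ofMul (⟨v.1, v.2.1⟩ : V)), (hfix _).mpr v.2.2⟩) ⟨?_, ?_⟩)).symm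
  · intro v w h
    have := colMap_injective hexp (congrArg (fun x => x.1) h)
    exact Subtype.ext (congrArg Subtype.val (Additive.ofMul.injective this) :)
  · rintro ⟨_, ⟨v, rfl⟩, hv⟩
    exact ⟨⟨v.toMul, v.toMul.2, (hfix v).mp ⟨⟨v, rfl⟩, hv⟩⟩, rfl⟩

theorem quad_iff (A : Subgroup G) : Quad (rep p V G hGV) A ↔
    ⁅⁅V, A.map G.subtype⁆, A.map G.subtype⁆ = ⊥ := by
  have h1 : ∀ (a b : G) (z : Space p V), (((rep p V G hGV a - 1) * (rep p V G hGV b - 1)) z).1.toMul.1 =
      ⁅(a : Ω), ⁅(b : Ω), (z.1.toMul : Ω)⁆⁆ := fun a b z => by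
    show ((((rep p V G hGV a - 1) ((rep p V G hGV b - 1) z)).1).toMul : Ω) = _
    rw [(sub_one_apply hGV a _).1, (sub_one_apply hGV b _).1]
  rw [Subgroup.commutator_eq_bot_iff_le_centralizer, Subgroup.commutator_le]
  constructor
  · rintro h v hv _ ⟨b, hb, rfl⟩
    rw [Subgroup.mem_centralizer_iff]
    rintro _ ⟨a, ha, rfl⟩
    have h2 := congrArg (fun z : Space p V => z.1.toMul.1)
      (DFunLike.congr_fun (h a ha b hb) (Additive.ofMul (⟨v, hv⟩ : V), 0))
    simp only [h1] at h2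
    have hc : Commute (a : Ω) ⁅(b : Ω), v⁆ := commutatorElement_eq_one_iff_mul_comm.mp h2
    rw [← commutatorElement_inv]
    exact hc.inv_right.eq
  · intro h a ha b hb
    refine AddMonoidHom.ext fun z => ?_
    refine Prod.ext (Additive.toMul.injective (Subtype.ext ?_)) (sub_one_apply hGV a _).2
    refine (h1 a b z).trans ?_
    have hc : Commute (a : Ω) ⁅(z.1.toMul : Ω), (b : Ω)⁆ :=
      Subgroup.mem_centralizer_iff.mp (h _ z.1.toMul.2 _ ⟨b, hb, rfl⟩) _ ⟨a, ha, rfl⟩
    rw [← commutatorElement_inv] at hc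
    exact commutatorElement_eq_one_iff_mul_comm.mpr (Commute.inv_right_iff.mp hc).eq

theorem elementary_of_quad (hexp : ∀ v ∈ V, v ^ p = 1)
    (hfaith : G ⊓ Subgroup.centralizer (V : Set Ω) = ⊥) {A : Subgroup G}
    (hA : Quad (rep p V G hGV) A) :
    (∀ a ∈ A, ∀ b ∈ A, a * b = b * a) ∧ ∀ a ∈ A, a ^ p = 1 :=
  elementary_of_quad_ring (rep_injective p V G hGV hfaith) (natCast_eq_zero hexp) hA

theorem finite_end [Finite Ω] : Finite (AddMonoid.End (Space p V)) := by
  haveI : NeZero p := ⟨hp.out.ne_zero⟩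
  exact Finite.of_injective (fun f : AddMonoid.End (Space p V) => (f : Space p V → Space p V))
    DFunLike.coe_injective

end Representation

end CfsgLib.Techniques.QuadOffender
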