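import Mathlib.Algebra.Polynomial.Coeff
import Mathlib.Algebra.Polynomial.Degree.Operations
import Mathlib.GroupTheory.Coset.Card
import Mathlib.GroupTheory.QuotientGroup.Basic
import Mathlib.Algebra.Polynomial.Degree.Lemmas
import Mathlib.Tactic.NoncommRing
import Mathlib.Tactic.Ring

/-!
# Leading coefficients of a one-parameter unipotent conjugation

For `u * u = 0` in a ring `R` and an additive subgroup `S`, the leading coefficients of the polynomials
`(1 + Xu) f (1 - Xu)`, `f ∈ S[X]`, form an additive subgroup `lead u S` at least as large as `S`;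
products of leading coefficients vanish when the products of the original elements do.
-/

set_option autoImplicit false

namespace CfsgLib.Techniques.QuadOffender

open Polynomial

variable {R : Type*} [Ring R]

/-- The first derivative of `x ↦ (1 + tu) x (1 - tu)`. -/
def dmap (u x : R) : R := u * x - x * u

/-- Its quadratic coefficient. -/
def emap (u x : R) : R := -(u * x * u)

/-- Conjugation of polynomials by `1 + Xu`. -/
noncomputable def conjP (u : R) (f : R[X]) : R[X] := (1 + C u * X) * f * (1 - C u * X)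

theorem conjP_add (u : R) (f g : R[X]) : conjP u (f + g) = conjP u f + conjP u g := by
  unfold conjP; noncomm_ring

theorem conjP_neg (u : R) (f : R[X]) : conjP u (-f) = -conjP u f := by
  unfold conjP; noncomm_ring

theorem conjP_X_mul (u : R) (f : R[X]) : conjP u (X * f) = X * conjP u f := by
  unfold conjP
  have h : (1 + C u * X) * X = X * (1 + C u * X) := (Polynomial.X_mul (p := 1 + C u * X)).symm
  rw [← mul_assoc (1 + C u * X), h, mul_assoc X, mul_assoc X]

theorem one_sub_mul_one_add {u : R} (hu : u * u = 0) :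
    (1 - C u * X) * (1 + C u * X) = 1 := by
  have h : C u * X * (C u * X) = 0 := by
    rw [mul_assoc, ← mul_assoc X, X_mul_C, mul_assoc, ← mul_assoc (C u), ← C_mul, hu, C_0, zero_mul]
  rw [sub_mul, one_mul, mul_add, mul_one, h, add_zero, add_sub_cancel_right]

theorem conjP_mul {u : R} (hu : u * u = 0) (f g : R[X]) :
    conjP u f * conjP u g = conjP u (f * g) := by
  unfold conjP
  calc (1 + C u * X) * f * (1 - C u * X) * ((1 + C u * X) * g * (1 - C u * X))
      = (1 + C u * X) * f * ((1 - C u * X) * (1 + C u * X)) * g * (1 - C u * X) := by noncomm_ring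
    _ = _ := by rw [one_sub_mul_one_add hu]; noncomm_ring

theorem conjP_eq (u : R) (f : R[X]) :
    conjP u f = f + (C u * f - f * C u) * X + -(C u * f * C u) * X * X := by
  have h1 : ∀ g : R[X], g * X = X * g := fun g => (Polynomial.X_mul (p := g)).symm
  unfold conjP
  rw [show C u * f - f * C u = C u * f + -(f * C u) by rw [sub_eq_add_neg]]
  have e1 : C u * X * f = C u * f * X := by rw [mul_assoc, ← h1, ← mul_assoc]
  have e2 : f * (C u * X) = f * C u * X := by rw [mul_assoc]
  have e3 : C u * X * f * (C u * X) = C u * f * C u * X * X := by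
    rw [e1, mul_assoc (C u * f), ← mul_assoc X, ← h1, ← mul_assoc, ← mul_assoc]
  calc (1 + C u * X) * f * (1 - C u * X)
      = f + C u * X * f - f * (C u * X) - C u * X * f * (C u * X) := by noncomm_ring
    _ = _ := by rw [e3, e1, e2]; noncomm_ring

theorem coeff_conjP (u : R) (f : R[X]) (n : ℕ) : (conjP u f).coeff n =
    f.coeff n + (if n = 0 then 0 else dmap u (f.coeff (n - 1))) +
      (if n < 2 then 0 else emap u (f.coeff (n - 2))) := by
  rw [conjP_eq, coeff_add, coeff_add]
  rcases n with _ | _ | n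
  · simp
  · simp [dmap, coeff_mul_C, coeff_C_mul]
  · rw [coeff_mul_X, coeff_mul_X, coeff_mul_X]
    simp [dmap, emap, coeff_mul_C, coeff_C_mul, mul_assoc]

theorem conjP_neg_conjP {u : R} (hu : u * u = 0) (f : R[X]) : conjP u (conjP (-u) f) = f := by
  have h1 : (1 + C u * X) * (1 + C (-u) * X) = 1 := by
    have h := one_sub_mul_one_add (u := -u) (by rw [neg_mul_neg, hu])
    rwa [C_neg, neg_mul, sub_neg_eq_add, ← neg_mul, ← C_neg] at h
  have h2 : (1 - C (-u) * X) * (1 - C u * X) = 1 := by
    rw [C_neg, neg_mul, sub_neg_eq_add]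
    have h := one_sub_mul_one_add (u := -u) (by rw [neg_mul_neg, hu])
    rw [C_neg, neg_mul, sub_neg_eq_add, ← sub_eq_add_neg] at h
    exact h
  calc conjP u (conjP (-u) f)
      = ((1 + C u * X) * (1 + C (-u) * X)) * f * ((1 - C (-u) * X) * (1 - C u * X)) := by
        unfold conjP; noncomm_ring
    _ = f := by rw [h1, h2, one_mul, mul_one]

theorem conjP_injective {u : R} (hu : u * u = 0) : Function.Injective (conjP u) := by
  intro f g h
  have := congrArg (conjP (-u)) h
  have h1 := conjP_neg_conjP (u := -u) (by rw [neg_mul_neg, hu])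
  rw [neg_neg] at h1
  rwa [h1, h1] at this

/-- The polynomials of degree at most `n` in `conjP u (S[X])`. -/
noncomputable def imageDeg (u : R) (S : AddSubgroup R) (n : ℕ) : AddSubgroup R[X] where
  carrier := {g | (∀ m, n < m → g.coeff m = 0) ∧ ∃ f : R[X], (∀ i, f.coeff i ∈ S) ∧ g = conjP u f}
  zero_mem' := ⟨fun m _ => coeff_zero m, 0, fun i => by rw [coeff_zero]; exact S.zero_mem,
    by simp [conjP]⟩
  add_mem' := by
    rintro a b ⟨ha, f, hf, rfl⟩ ⟨hb, g, hg, rfl⟩
    exact ⟨fun m hm => by rw [coeff_add, ha m hm, hb m hm, add_zero], f + g,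
      fun i => by rw [coeff_add]; exact S.add_mem (hf i) (hg i), (conjP_add u f g).symm⟩
  neg_mem' := by
    rintro a ⟨ha, f, hf, rfl⟩
    exact ⟨fun m hm => by rw [coeff_neg, ha m hm, neg_zero], -f,
      fun i => by rw [coeff_neg]; exact S.neg_mem (hf i), (conjP_neg u f).symm⟩

theorem X_mul_mem_imageDeg {u : R} {S : AddSubgroup R} {n : ℕ} {g : R[X]} (h : g ∈ imageDeg u S n) :
    X * g ∈ imageDeg u S (n + 1) := by
  obtain ⟨hd, f, hf, rfl⟩ := h
  refine ⟨fun m hm => ?_, X * f, fun i => ?_, (conjP_X_mul u f).symm⟩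
  · obtain ⟨m, rfl⟩ := Nat.exists_eq_add_of_le' (show 1 ≤ m by omega)
    rw [coeff_X_mul, hd m (by omega)]
  · rcases i with _ | i
    · rw [coeff_X_mul_zero]; exact S.zero_mem
    · rw [coeff_X_mul]; exact hf i

theorem exists_shift {u : R} {S : AddSubgroup R} {n m : ℕ} (hnm : n ≤ m) {g : R[X]}
    (h : g ∈ imageDeg u S n) : ∃ g' ∈ imageDeg u S m, g'.coeff m = g.coeff n := by
  induction m, hnm using Nat.le_induction with
  | base => exact ⟨g, h, rfl⟩
  | succ m _ ih =>
    obtain ⟨g', h1, h2⟩ := ih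
    exact ⟨X * g', X_mul_mem_imageDeg h1, by rw [coeff_X_mul, h2]⟩

/-- The leading coefficients of `conjP u (S[X])`. -/
noncomputable def lead (u : R) (S : AddSubgroup R) : AddSubgroup R where
  carrier := {w | ∃ n, ∃ g ∈ imageDeg u S n, g.coeff n = w}
  zero_mem' := ⟨0, 0, (imageDeg u S 0).zero_mem, coeff_zero 0⟩
  add_mem' := by
    rintro a b ⟨n, g, hg, rfl⟩ ⟨m, g', hg', rfl⟩
    obtain ⟨g1, h1, e1⟩ := exists_shift (le_max_left n m) hg
    obtain ⟨g2, h2, e2⟩ := exists_shift (le_max_right n m) hg'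
    exact ⟨_, g1 + g2, AddSubgroup.add_mem _ h1 h2, by rw [coeff_add, e1, e2]⟩
  neg_mem' := by
    rintro a ⟨n, g, hg, rfl⟩
    exact ⟨n, -g, AddSubgroup.neg_mem _ hg, coeff_neg g n⟩

theorem exists_decomp_of_mem_lead {u : R} {S : AddSubgroup R} {w : R} (h : w ∈ lead u S) :
    ∃ a ∈ S, ∃ b ∈ S, ∃ c ∈ S, w = a + dmap u b + emap u c := by
  obtain ⟨n, g, ⟨-, f, hf, rfl⟩, rfl⟩ := h
  rw [coeff_conjP]
  refine ⟨f.coeff n, hf n, if n = 0 then 0 else f.coeff (n - 1), ?_,
    if n < 2 then 0 else f.coeff (n - 2), ?_, ?_⟩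
  · split_ifs
    exacts [S.zero_mem, hf _]
  · split_ifs
    exacts [S.zero_mem, hf _]
  · congr 1
    · congr 1
      split_ifs <;> simp [dmap]
    · split_ifs <;> simp [emap]

theorem lead_le {u : R} {S F : AddSubgroup R} (hS : S ≤ F) (hd : ∀ x ∈ S, dmap u x ∈ F)
    (he : ∀ x ∈ S, emap u x ∈ F) : lead u S ≤ F := by
  intro w hw
  obtain ⟨a, ha, b, hb, c, hc, rfl⟩ := exists_decomp_of_mem_lead hw
  exact F.add_mem (F.add_mem (hS ha) (hd b hb)) (he c hc)

theorem lead_mono {u : R} {S S' : AddSubgroup R} (h : S ≤ S') : lead u S ≤ lead u S' := by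
  rintro w ⟨n, g, ⟨hd, f, hf, he⟩, hw⟩
  exact ⟨n, g, ⟨hd, f, fun i => h (hf i), he⟩, hw⟩

theorem le_lead_of_invariant {u : R} (hu : u * u = 0) {S : AddSubgroup R}
    (hd : ∀ x ∈ S, dmap u x ∈ S) (he : ∀ x ∈ S, emap u x ∈ S) : S ≤ lead u S := by
  intro y hy
  refine ⟨0, C y, ⟨fun m hm => coeff_C_ne_zero (by omega), conjP (-u) (C y), fun i => ?_,
    (conjP_neg_conjP hu _).symm⟩, coeff_C_zero⟩
  rw [coeff_conjP]
  rcases i with _ | _ | _ | i
  · simp [hy]
  · simpa [dmap, sub_eq_add_neg, add_comm] using S.neg_mem (hd y hy)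
  · simpa [emap, dmap, coeff_C] using he y hy
  · simp [coeff_C, dmap, emap]

theorem emap_mem_lead {u : R} {S : AddSubgroup R} {y : R} (hy : y ∈ S) : emap u y ∈ lead u S := by
  refine ⟨2, conjP u (C y), ⟨fun m hm => ?_, C y, fun i => ?_, rfl⟩, ?_⟩
  · rw [coeff_conjP]
    simp [coeff_C, show m ≠ 0 by omega, show m - 1 ≠ 0 by omega, show m - 2 ≠ 0 by omega, dmap, emap]
  · rw [coeff_C]
    split_ifs
    exacts [hy, S.zero_mem]
  · rw [coeff_conjP]; simp [coeff_C, dmap]

theorem dmap_mem_lead {u : R} (hu : u * u = 0) {S : AddSubgroup R} {y : R} (hy : y ∈ S)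
    (he : emap u y ∈ S) : dmap u y ∈ lead u S := by
  have hu' : ∀ a : R, a * u * u = 0 := fun a => by rw [mul_assoc, hu, mul_zero]
  have hu'' : ∀ a : R, u * (u * a) = 0 := fun a => by rw [← mul_assoc, hu, zero_mul]
  set f := C y - X * (X * C (emap u y)) with hf
  have hfc : ∀ i, f.coeff i = if i = 0 then y else if i = 2 then -emap u y else 0 := by
    intro i
    rw [hf, coeff_sub]
    rcases i with _ | _ | _ | i <;> simp [coeff_X_mul, coeff_C]
  refine ⟨1, conjP u f, ⟨fun m hm => ?_, f, fun i => ?_, rfl⟩, ?_⟩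
  · rw [coeff_conjP, hfc, hfc, hfc]
    rcases m with _ | _ | _ | _ | _ | m
    · omega
    · omega
    · simp [dmap, emap]
    · simp [dmap, emap, mul_assoc, hu, hu'', hu']
    · simp [dmap, emap, mul_assoc, hu, hu'', hu']
    · simp [dmap, emap]
  · rw [hfc]
    split_ifs
    exacts [hy, S.neg_mem he, S.zero_mem]
  · rw [coeff_conjP, hfc, hfc]; simp

theorem lead_mul_eq_zero {u : R} (hu : u * u = 0) {S S' : AddSubgroup R}
    (h : ∀ a ∈ S, ∀ b ∈ S', a * b = 0) {v w : R} (hv : v ∈ lead u S) (hw : w ∈ lead u S') :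
    v * w = 0 := by
  obtain ⟨n, g, ⟨hgd, f, hf, rfl⟩, rfl⟩ := hv
  obtain ⟨m, g', ⟨hgd', f', hf', rfl⟩, rfl⟩ := hw
  have hz : f * f' = 0 := by
    ext k
    rw [coeff_mul, coeff_zero]
    exact Finset.sum_eq_zero fun x _ => h _ (hf _) _ (hf' _)
  have h1 : (conjP u f).natDegree ≤ n := natDegree_le_iff_coeff_eq_zero.mpr hgd
  have h2 : (conjP u f').natDegree ≤ m := natDegree_le_iff_coeff_eq_zero.mpr hgd'
  have h3 := coeff_mul_add_eq_of_natDegree_le h1 h2
  rw [conjP_mul hu, hz] at h3
  rw [← h3]
  simp [conjP]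

variable [Finite R]

theorem finite_imageDeg (u : R) (S : AddSubgroup R) (n : ℕ) : Finite (imageDeg u S n) :=
  Finite.of_injective (fun g : imageDeg u S n => fun i : Fin (n + 1) => (g : R[X]).coeff i) (by
    intro g g' h
    refine Subtype.ext (Polynomial.ext fun k => ?_)
    by_cases hk : k ≤ n
    · exact congrFun h ⟨k, by omega⟩
    · rw [g.2.1 k (by omega), g'.2.1 k (by omega)])

theorem card_imageDeg_le (u : R) (S : AddSubgroup R) (n : ℕ) :
    Nat.card (imageDeg u S n) ≤ Nat.card (lead u S) ^ (n + 1) := by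
  induction n with
  | zero =>
    rw [pow_one]
    haveI := finite_imageDeg u S 0
    refine Nat.card_le_card_of_injective
      (fun g : imageDeg u S 0 => (⟨(g : R[X]).coeff 0, 0, g, g.2, rfl⟩ : lead u S)) fun g g' h => ?_
    refine Subtype.ext (Polynomial.ext fun k => ?_)
    rcases k with _ | k
    · exact congrArg Subtype.val h
    · rw [g.2.1 _ (by omega), g'.2.1 _ (by omega)]
  | succ n ih =>
    haveI := finite_imageDeg u S (n + 1)
    haveI := finite_imageDeg u S n
    let φ : imageDeg u S (n + 1) →+ lead u S :=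
      { toFun := fun g => ⟨(g : R[X]).coeff (n + 1), n + 1, g, g.2, rfl⟩
        map_zero' := Subtype.ext (coeff_zero _)
        map_add' := fun g g' => Subtype.ext (coeff_add _ _ _) }
    have h1 : Nat.card φ.ker ≤ Nat.card (imageDeg u S n) :=
      Nat.card_le_card_of_injective
        (fun g : φ.ker => (⟨(g : imageDeg u S (n + 1)), fun m hm => by
          rcases eq_or_ne m (n + 1) with rfl | hne
          · exact congrArg Subtype.val g.2
          · exact g.1.2.1 m (by omega), g.1.2.2⟩ : imageDeg u S n))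
        fun g g' h => Subtype.ext (Subtype.ext (by
          have := congrArg Subtype.val h
          exact this))
    have h2 : Nat.card (imageDeg u S (n + 1)) = Nat.card φ.ker * Nat.card φ.range := by
      rw [← Nat.card_congr (QuotientAddGroup.quotientKerEquivRange φ).toEquiv, mul_comm]
      exact AddSubgroup.card_eq_card_quotient_mul_card_addSubgroup _
    rw [h2, pow_succ _ (n + 1)]
    exact Nat.mul_le_mul (h1.trans ih)
      (Nat.card_le_card_of_injective Subtype.val Subtype.val_injective)

/-- The leading coefficients are at least as many as the elements of `S`. -/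
theorem card_le_card_lead {u : R} (hu : u * u = 0) (S : AddSubgroup R) :
    Nat.card S ≤ Nat.card (lead u S) := by
  classical
  by_contra hlt
  set L := Nat.card (lead u S)
  have hL : 1 ≤ L := Nat.card_pos
  set j := L ^ 3 with hj
  have hS : L + 1 ≤ Nat.card S := by omega
  haveI := finite_imageDeg u S (j + 1)
  have hinj : Nat.card S ^ j ≤ Nat.card (imageDeg u S (j + 1)) := by
    rw [← Nat.card_fin j, ← Nat.card_fun, Nat.card_fin]
    have hf : ∀ c : Fin j → S, ∀ i,
        (∑ k : Fin j, monomial (R := R) (k : ℕ) (c k : R)).coeff i =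
          if h : i < j then (c ⟨i, h⟩ : R) else 0 := by
      intro c i
      rw [finset_sum_coeff]
      simp only [coeff_monomial]
      split_ifs with h
      · rw [Finset.sum_eq_single (⟨i, h⟩ : Fin j)]
        · simp
        · intro k _ hk
          rw [if_neg fun e => hk (Fin.ext e)]
        · simp
      · exact Finset.sum_eq_zero fun k _ => if_neg (by have := k.2; omega)
    refine Nat.card_le_card_of_injective (fun c => (⟨conjP u (∑ k : Fin j, monomial (k : ℕ) (c k : R)),
      fun m hm => ?_, _, fun i => ?_, rfl⟩ : imageDeg u S (j + 1))) fun c c' h => ?_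
    · rw [coeff_conjP, hf, hf, hf, dif_neg (by omega), dif_neg (by omega), dif_neg (by omega)]
      simp [dmap, emap]
    · rw [hf]
      split_ifs
      exacts [(c _).2, S.zero_mem]
    · have h' := conjP_injective hu (congrArg Subtype.val h)
      funext k
      refine Subtype.ext ?_
      have := congrArg (fun f : R[X] => f.coeff (k : ℕ)) h'
      simpa [hf] using this
  have h1 : (L + 1) ^ j ≤ L ^ (j + 2) :=
    ((Nat.pow_le_pow_left hS j).trans hinj).trans (card_imageDeg_le u S (j + 1))
  have hb : ∀ k : ℕ, L ^ k * (L + k) ≤ L * (L + 1) ^ k := by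
    intro k
    induction k with
    | zero => simp
    | succ k ih =>
      calc L ^ (k + 1) * (L + (k + 1)) ≤ L ^ k * (L + k) * (L + 1) := by
            rw [pow_succ, mul_assoc (L ^ k), mul_assoc (L ^ k)]
            refine Nat.mul_le_mul_left _ ?_
            nlinarith
        _ ≤ L * (L + 1) ^ k * (L + 1) := Nat.mul_le_mul_right _ ih
        _ = _ := by rw [pow_succ]; ring
  have h2 := (hb j).trans (Nat.mul_le_mul_left L h1)
  have h3 : L * L ^ (j + 2) = L ^ j * L ^ 3 := by ring
  rw [h3, ← hj] at h2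
  have h4 := Nat.le_of_mul_le_mul_left h2 (pow_pos hL j)
  omega

end CfsgLib.Techniques.QuadOffender
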