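import Cfsg.Agent.Techniques.QuadOffender.Lead
import Mathlib.GroupTheory.PGroup
import Mathlib.Algebra.Group.Subgroup.Ker

/-!
# Replacing a quadratic offender by one invariant under a conjugating quadratic element

`ρ` is a faithful representation of a finite `p`-group `G` by units of a finite ring of characteristic `p`,
`p` odd, and `col` an invariant additive subgroup playing the role of the module.
-/

set_option autoImplicit false

namespace CfsgLib.Techniques.QuadOffender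

open Polynomial

variable {R : Type*} [Ring R] {G : Type*} [Group G]

/-- `(ρ a - 1)(ρ b - 1) = 0` on `A`. -/
def Quad (ρ : G →* R) (A : Subgroup G) : Prop := ∀ a ∈ A, ∀ b ∈ A, (ρ a - 1) * (ρ b - 1) = 0

/-- The additive subgroup of the `ρ a - 1`. -/
def lin (ρ : G →* R) (A : Subgroup G) : AddSubgroup R :=
  AddSubgroup.closure ((fun a => ρ a - 1) '' (A : Set G))

variable {ρ : G →* R} {A B : Subgroup G}

theorem sub_one_mem_lin {a : G} (ha : a ∈ A) : ρ a - 1 ∈ lin ρ A :=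
  AddSubgroup.subset_closure ⟨a, ha, rfl⟩

theorem map_inv_of_quad (hA : Quad ρ A) {a : G} (ha : a ∈ A) : ρ a⁻¹ = 1 - (ρ a - 1) := by
  have h1 : ρ a⁻¹ * ρ a = 1 := by rw [← map_mul, inv_mul_cancel, map_one]
  have h2 : (1 + (ρ a - 1)) * (1 - (ρ a - 1)) = 1 := by
    have := hA a ha a ha
    calc (1 + (ρ a - 1)) * (1 - (ρ a - 1)) = 1 - (ρ a - 1) * (ρ a - 1) := by noncomm_ring
      _ = 1 := by rw [this, sub_zero]
  calc ρ a⁻¹ = ρ a⁻¹ * ((1 + (ρ a - 1)) * (1 - (ρ a - 1))) := by rw [h2, mul_one]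
    _ = ρ a⁻¹ * ρ a * (1 - (ρ a - 1)) := by rw [add_sub_cancel, mul_assoc]
    _ = _ := by rw [h1, one_mul]

theorem exists_of_mem_lin (hA : Quad ρ A) {y : R} (hy : y ∈ lin ρ A) : ∃ a ∈ A, ρ a = 1 + y := by
  induction hy using AddSubgroup.closure_induction with
  | mem x hx =>
    obtain ⟨a, ha, rfl⟩ := hx
    exact ⟨a, ha, by simp⟩
  | zero => exact ⟨1, A.one_mem, by simp⟩
  | add x y _ _ ihx ihy =>
    obtain ⟨a, ha, ea⟩ := ihx
    obtain ⟨b, hb, eb⟩ := ihy
    have := hA a ha b hb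
    rw [ea, eb, add_sub_cancel_left, add_sub_cancel_left] at this
    refine ⟨a * b, A.mul_mem ha hb, ?_⟩
    rw [map_mul, ea, eb, add_mul, one_mul, mul_add, mul_one, this]
    abel
  | neg x _ ih =>
    obtain ⟨a, ha, ea⟩ := ih
    exact ⟨a⁻¹, A.inv_mem ha, by rw [map_inv_of_quad hA ha, ea]; abel⟩

theorem lin_mul_eq_zero (hA : Quad ρ A) {y y' : R} (hy : y ∈ lin ρ A) (hy' : y' ∈ lin ρ A) :
    y * y' = 0 := by
  obtain ⟨a, ha, ea⟩ := exists_of_mem_lin hA hy
  obtain ⟨b, hb, eb⟩ := exists_of_mem_lin hA hy'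
  have := hA a ha b hb
  rwa [ea, eb, add_sub_cancel_left, add_sub_cancel_left] at this

theorem card_lin (hρ : Function.Injective ρ) (hA : Quad ρ A) : Nat.card (lin ρ A) = Nat.card A := by
  refine (Nat.card_congr (Equiv.ofBijective (fun a : A => (⟨ρ a - 1, sub_one_mem_lin a.2⟩ : lin ρ A))
    ⟨fun a b h => ?_, fun y => ?_⟩)).symm
  · exact Subtype.ext (hρ (sub_left_injective (congrArg Subtype.val h)))
  · obtain ⟨a, ha, ea⟩ := exists_of_mem_lin hA y.2
    exact ⟨⟨a, ha⟩, Subtype.ext (by show ρ a - 1 = y; rw [ea, add_sub_cancel_left])⟩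

theorem quad_conj (hA : Quad ρ A) (b : G) : Quad ρ (A.map (MulAut.conj b).toMonoidHom) := by
  rintro _ ⟨a, ha, rfl⟩ _ ⟨c, hc, rfl⟩
  have h1 : ∀ x : G, ρ ((MulAut.conj b).toMonoidHom x) - 1 = ρ b * (ρ x - 1) * ρ b⁻¹ := fun x => by
    show ρ (b * x * b⁻¹) - 1 = _
    rw [map_mul, map_mul, mul_sub, sub_mul, mul_one, ← map_mul ρ b b⁻¹, mul_inv_cancel, map_one]
  rw [h1, h1]
  calc ρ b * (ρ a - 1) * ρ b⁻¹ * (ρ b * (ρ c - 1) * ρ b⁻¹)
      = ρ b * (ρ a - 1) * (ρ b⁻¹ * ρ b) * (ρ c - 1) * ρ b⁻¹ := by noncomm_ring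
    _ = 0 := by
      rw [← map_mul, inv_mul_cancel, map_one, mul_one, mul_assoc (ρ b), hA a ha c hc, mul_zero, zero_mul]

variable {p : ℕ} [hp : Fact p.Prime]

/-- `2`-divisibility of additive subgroups in odd characteristic. -/
theorem half_mem (hp2 : p ≠ 2) (hp0 : (p : R) = 0) {S : AddSubgroup R} {w : R} (h : w + w ∈ S) :
    w ∈ S := by
  obtain ⟨k, hk⟩ := hp.out.odd_of_ne_two hp2
  have h1 : (k + 1) • (w + w) ∈ S := S.nsmul_mem h _
  rwa [← two_nsmul, ← mul_nsmul', show (k + 1) * 2 = p + 1 by omega, succ_nsmul, nsmul_eq_mul, hp0,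
    zero_mul, zero_add] at h1

theorem half_eq (hp2 : p ≠ 2) (hp0 : (p : R) = 0) {v w : R} (h : v + v = w + w) : v = w := by
  have := half_mem hp2 hp0 (S := ⊥) (w := v - w) (by
    rw [AddSubgroup.mem_bot]
    calc v - w + (v - w) = (v + v) - (w + w) := by abel
      _ = 0 := by rw [h, sub_self])
  exact sub_eq_zero.mp (AddSubgroup.mem_bot.mp this)

theorem commutator_mem_lin (hp2 : p ≠ 2) (hp0 : (p : R) = 0) (hA : Quad ρ A) (hB : Quad ρ B)
    (hn : B ≤ Subgroup.normalizer (A : Set G)) {y z : R} (hy : y ∈ lin ρ A) (hz : z ∈ lin ρ B) :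
    z * y - y * z ∈ lin ρ A := by
  obtain ⟨a, ha, ea⟩ := exists_of_mem_lin hA hy
  obtain ⟨b, hb, eb⟩ := exists_of_mem_lin hB hz
  have hzz := lin_mul_eq_zero hB hz hz
  have ebi : ρ b⁻¹ = 1 - z := by rw [map_inv_of_quad hB hb, eb, add_sub_cancel_left]
  have h1 : ρ (b * a * b⁻¹) - 1 = y + (z * y - y * z) - z * y * z := by
    rw [map_mul, map_mul, ea, eb, ebi]
    calc (1 + z) * (1 + y) * (1 - z) - 1 = y + (z * y - y * z) - z * y * z - z * z := by noncomm_ring
      _ = _ := by rw [hzz, sub_zero]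
  have h2 : ρ (b⁻¹ * a * b) - 1 = y - (z * y - y * z) - z * y * z := by
    rw [map_mul, map_mul, ea, eb, ebi]
    calc (1 - z) * (1 + y) * (1 + z) - 1 = y - (z * y - y * z) - z * y * z - z * z := by noncomm_ring
      _ = _ := by rw [hzz, sub_zero]
  have m1 := sub_one_mem_lin (ρ := ρ) ((Subgroup.mem_normalizer_iff.mp (hn hb) a).mp ha)
  have m2 := sub_one_mem_lin (ρ := ρ) ((Subgroup.mem_normalizer_iff''.mp (hn hb) a).mp ha)
  rw [h1] at m1
  rw [h2] at m2
  refine half_mem hp2 hp0 ?_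
  have := (lin ρ A).sub_mem m1 m2
  rwa [show y + (z * y - y * z) - z * y * z - (y - (z * y - y * z) - z * y * z) =
    z * y - y * z + (z * y - y * z) by abel] at this

theorem mul_mul_eq_zero (hp2 : p ≠ 2) (hp0 : (p : R) = 0) (hA : Quad ρ A) (hB : Quad ρ B)
    (hn : B ≤ Subgroup.normalizer (A : Set G)) {y y' z : R} (hy : y ∈ lin ρ A) (hy' : y' ∈ lin ρ A)
    (hz : z ∈ lin ρ B) : y * z * y' = 0 := by
  have h1 := lin_mul_eq_zero hA (commutator_mem_lin hp2 hp0 hA hB hn hy hz) hy'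
  have h2 := lin_mul_eq_zero hA hy hy'
  rw [sub_mul, mul_assoc z, h2, mul_zero, zero_sub, neg_eq_zero] at h1
  exact h1

/-- A square-zero sum from three pairwise normalising quadratic subgroups is realised in the group. -/
theorem exists_map_eq_one_add (hp2 : p ≠ 2) (hp0 : (p : R) = 0) {A₀ A₁ A₂ K : Subgroup G}
    (q0 : Quad ρ A₀) (q1 : Quad ρ A₁) (q2 : Quad ρ A₂) (l0 : A₀ ≤ K) (l1 : A₁ ≤ K) (l2 : A₂ ≤ K)
    (n0 : K ≤ Subgroup.normalizer (A₀ : Set G)) (n1 : K ≤ Subgroup.normalizer (A₁ : Set G))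
    (n2 : K ≤ Subgroup.normalizer (A₂ : Set G)) {a c e : R} (ha : a ∈ lin ρ A₀) (hc : c ∈ lin ρ A₁)
    (he : e ∈ lin ρ A₂) (hsq : (a + c + e) * (a + c + e) = 0) :
    ∃ g ∈ K, ρ g = 1 + (a + c + e) := by
  set k1 := a * c - c * a with hk1
  set k2 := a * e - e * a with hk2
  set k3 := c * e - e * c with hk3
  have neg' : ∀ {S : AddSubgroup R} {x y : R}, x * y - y * x ∈ S → y * x - x * y ∈ S := fun {S x y} h => by
    simpa using S.neg_mem h
  have k10 : k1 ∈ lin ρ A₀ := neg' (commutator_mem_lin hp2 hp0 q0 q1 (l1.trans n0) ha hc)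
  have k11 : k1 ∈ lin ρ A₁ := commutator_mem_lin hp2 hp0 q1 q0 (l0.trans n1) hc ha
  have k20 : k2 ∈ lin ρ A₀ := neg' (commutator_mem_lin hp2 hp0 q0 q2 (l2.trans n0) ha he)
  have k22 : k2 ∈ lin ρ A₂ := commutator_mem_lin hp2 hp0 q2 q0 (l0.trans n2) he ha
  have k31 : k3 ∈ lin ρ A₁ := neg' (commutator_mem_lin hp2 hp0 q1 q2 (l2.trans n1) hc he)
  have k32 : k3 ∈ lin ρ A₂ := commutator_mem_lin hp2 hp0 q2 q1 (l1.trans n2) he hc
  have aa := lin_mul_eq_zero q0 ha ha
  have cc := lin_mul_eq_zero q1 hc hc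
  have ee := lin_mul_eq_zero q2 he he
  have aca := mul_mul_eq_zero hp2 hp0 q0 q1 (l1.trans n0) ha ha hc
  have aea := mul_mul_eq_zero hp2 hp0 q0 q2 (l2.trans n0) ha ha he
  have cac := mul_mul_eq_zero hp2 hp0 q1 q0 (l0.trans n1) hc hc ha
  have cec := mul_mul_eq_zero hp2 hp0 q1 q2 (l2.trans n1) hc hc he
  have eae := mul_mul_eq_zero hp2 hp0 q2 q0 (l0.trans n2) he he ha
  have ece := mul_mul_eq_zero hp2 hp0 q2 q1 (l1.trans n2) he he hc
  set w := a + c + e with hw
  set S := a * c + a * e + c * e with hS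
  set K' := k1 + k2 + k3 with hK'
  have hKS : K' = S + S := by
    have h : a * c + a * e + c * e + (c * a + e * a + e * c) = 0 := by
      rw [← hsq, hw]
      simp only [mul_add, add_mul, aa, cc, ee]
      abel
    calc K' = S + S - (a * c + a * e + c * e + (c * a + e * a + e * c)) := by
          rw [hK', hk1, hk2, hk3, hS]; abel
      _ = S + S := by rw [h, sub_zero]
  have kk : ∀ x ∈ [k1, k2, k3], ∀ y ∈ [k1, k2, k3], x * y = 0 := by
    simp only [List.mem_cons, List.not_mem_nil, or_false]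
    rintro x (rfl | rfl | rfl) y (rfl | rfl | rfl)
    exacts [lin_mul_eq_zero q0 k10 k10, lin_mul_eq_zero q0 k10 k20, lin_mul_eq_zero q1 k11 k31,
      lin_mul_eq_zero q0 k20 k10, lin_mul_eq_zero q0 k20 k20, lin_mul_eq_zero q2 k22 k32,
      lin_mul_eq_zero q1 k31 k11, lin_mul_eq_zero q2 k32 k22, lin_mul_eq_zero q1 k31 k31]
  obtain ⟨k, hk⟩ := hp.out.odd_of_ne_two hp2
  set h := k + 1 with hh
  have hdouble : ∀ x : R, h • (x + x) = x := fun x => by
    rw [← two_nsmul, ← mul_nsmul', show h * 2 = p + 1 by omega, succ_nsmul, nsmul_eq_mul, hp0,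
      zero_mul, zero_add]
  obtain ⟨g0, hg0, eg0⟩ := exists_of_mem_lin q0 ha
  obtain ⟨g1, hg1, eg1⟩ := exists_of_mem_lin q1 hc
  obtain ⟨g2, hg2, eg2⟩ := exists_of_mem_lin q2 he
  obtain ⟨y1, hy1, ey1⟩ := exists_of_mem_lin q0 ((lin ρ A₀).neg_mem ((lin ρ A₀).nsmul_mem k10 h))
  obtain ⟨y2, hy2, ey2⟩ := exists_of_mem_lin q0 ((lin ρ A₀).neg_mem ((lin ρ A₀).nsmul_mem k20 h))
  obtain ⟨y3, hy3, ey3⟩ := exists_of_mem_lin q1 ((lin ρ A₁).neg_mem ((lin ρ A₁).nsmul_mem k31 h))
  refine ⟨g0 * g1 * g2 * (y1 * y2 * y3), K.mul_mem (K.mul_mem (K.mul_mem (l0 hg0) (l1 hg1)) (l2 hg2))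
    (K.mul_mem (K.mul_mem (l0 hy1) (l0 hy2)) (l1 hy3)), ?_⟩
  rw [map_mul, map_mul, map_mul, map_mul, map_mul, eg0, eg1, eg2, ey1, ey2, ey3]
  have e3 : (1 + -(h • k1)) * (1 + -(h • k2)) * (1 + -(h • k3)) = 1 - h • K' := by
    have m12 : k1 * k2 = 0 := kk _ (by simp) _ (by simp)
    have m13 : k1 * k3 = 0 := kk _ (by simp) _ (by simp)
    have m23 : k2 * k3 = 0 := kk _ (by simp) _ (by simp)
    have gen : ∀ x y z : R, x * y = 0 → x * z = 0 → y * z = 0 →
        (1 + -x) * (1 + -y) * (1 + -z) = 1 - (x + y + z) := by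
      intro x y z hxy hxz hyz
      calc (1 + -x) * (1 + -y) * (1 + -z)
          = 1 - (x + y + z) + x * y + x * z + y * z - x * y * z := by noncomm_ring
        _ = _ := by rw [hxy, hxz, hyz]; simp
    rw [gen _ _ _ (by rw [smul_mul_assoc, mul_smul_comm, m12, smul_zero, smul_zero])
      (by rw [smul_mul_assoc, mul_smul_comm, m13, smul_zero, smul_zero])
      (by rw [smul_mul_assoc, mul_smul_comm, m23, smul_zero, smul_zero]), hK', smul_add, smul_add]
  have hP : (1 + a) * (1 + c) * (1 + e) = 1 + w + S + a * c * e := by rw [hw, hS]; noncomm_ring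
  rw [e3, hP]
  have ak1 : a * k1 = 0 := lin_mul_eq_zero q0 ha k10
  have ak2 : a * k2 = 0 := lin_mul_eq_zero q0 ha k20
  have ck1 : c * k1 = 0 := lin_mul_eq_zero q1 hc k11
  have ck3 : c * k3 = 0 := lin_mul_eq_zero q1 hc k31
  have ek2 : e * k2 = 0 := lin_mul_eq_zero q2 he k22
  have ek3 : e * k3 = 0 := lin_mul_eq_zero q2 he k32
  have hKK : K' * K' = 0 := by
    simp only [hK', mul_add, add_mul]
    simp [kk k1 (by simp) k1 (by simp), kk k1 (by simp) k2 (by simp), kk k1 (by simp) k3 (by simp),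
      kk k2 (by simp) k1 (by simp), kk k2 (by simp) k2 (by simp), kk k2 (by simp) k3 (by simp),
      kk k3 (by simp) k1 (by simp), kk k3 (by simp) k2 (by simp), kk k3 (by simp) k3 (by simp)]
  have hSh : h • K' = S := by rw [hKS, hdouble]
  have hwK : w * K' = a * c * e + a * c * e := by
    have mm : ∀ {x y z : R}, x * y * z = 0 → ∀ t, x * (y * z) = 0 ∧ x * (y * (z * t)) = 0 := by
      intro x y z hxyz t
      exact ⟨by rw [← mul_assoc, hxyz], by rw [← mul_assoc y, ← mul_assoc x, ← mul_assoc x, hxyz, zero_mul]⟩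
    have sq' : ∀ {x : R}, x * x = 0 → ∀ t, x * (x * t) = 0 := fun hx t => by rw [← mul_assoc, hx, zero_mul]
    have aa' := sq' aa
    have cc' := sq' cc
    have ee' := sq' ee
    have t1 := (mm aca 0).1
    have t2 := (mm aea 0).1
    have t3 := (mm cac 0).1
    have t4 := (mm cec 0).1
    have t5 := (mm eae 0).1
    have t6 := (mm ece 0).1
    have r1 : c * (e * a) + e * (c * a) = 0 := by
      have h0 : w * w * a = 0 := by rw [hsq, zero_mul]
      rw [← h0, hw]
      simp only [mul_add, add_mul, mul_assoc, aa', cc', ee', aa, cc, ee, t1, t2, t3, t4, t5, t6,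
        mul_zero, zero_add, add_zero]
      abel
    have r2 : a * (c * e) + a * (e * c) = 0 := by
      have h0 : a * (w * w) = 0 := by rw [hsq, mul_zero]
      rw [← h0, hw]
      simp only [mul_add, add_mul, mul_assoc, aa', cc', ee', aa, cc, ee, t1, t2, t3, t4, t5, t6,
        mul_zero, zero_add, add_zero]
      abel
    have r3 : c * (a * e) + c * (e * a) = 0 := by
      have h0 : c * (w * w) = 0 := by rw [hsq, mul_zero]
      rw [← h0, hw]
      simp only [mul_add, add_mul, mul_assoc, aa', cc', ee', aa, cc, ee, t1, t2, t3, t4, t5, t6,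
        mul_zero, zero_add, add_zero]
      abel
    have r5 : e * (a * c) + e * (c * a) = 0 := by
      have h0 : e * (w * w) = 0 := by rw [hsq, mul_zero]
      rw [← h0, hw]
      simp only [mul_add, add_mul, mul_assoc, aa', cc', ee', aa, cc, ee, t1, t2, t3, t4, t5, t6,
        mul_zero, zero_add, add_zero]
      abel
    calc w * K' = e * k1 + c * k2 + a * k3 := by
          rw [hw, hK']; simp only [mul_add, add_mul, ak1, ak2, ck1, ck3, ek2, ek3, zero_add, add_zero]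
      _ = a * c * e + a * c * e + ((e * (a * c) + e * (c * a)) + (c * (a * e) + c * (e * a))
            - (a * (c * e) + a * (e * c)) - (c * (e * a) + e * (c * a))
            - (c * (e * a) + e * (c * a))) := by rw [hk1, hk2, hk3]; noncomm_ring
      _ = _ := by rw [r1, r2, r3, r5]; simp
  have hSK : S * K' = 0 := by rw [← hSh, smul_mul_assoc, hKK, smul_zero]
  have haceK : a * c * e * K' = 0 := by
    have h1 : c * e * k1 = 0 := mul_mul_eq_zero hp2 hp0 q1 q2 (l2.trans n1) hc k11 he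
    simp only [hK', mul_add, mul_assoc, ek2, ek3, mul_zero, add_zero]
    rw [← mul_assoc c, h1, mul_zero]
  calc (1 + w + S + a * c * e) * (1 - h • K')
      = 1 + w + S + a * c * e - (h • K' + h • (w * K') + h • (S * K') + h • (a * c * e * K')) := by
        rw [mul_sub, mul_one, mul_smul_comm, add_mul, add_mul, add_mul, one_mul, smul_add, smul_add,
          smul_add]
    _ = 1 + w := by rw [hwK, hdouble, hSK, haceK, hSh, smul_zero]; abel

/-- The ascending series of the conjugation action. -/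
def flag (ρ : G →* R) : ℕ → AddSubgroup R
  | 0 => ⊥
  | k + 1 =>
    { carrier := {x | ∀ g : G, ρ g * x * ρ g⁻¹ - x ∈ flag ρ k}
      zero_mem' := fun g => by simp
      add_mem' := fun {x y} hx hy g => by
        have := (flag ρ k).add_mem (hx g) (hy g)
        rwa [show ρ g * x * ρ g⁻¹ - x + (ρ g * y * ρ g⁻¹ - y) = ρ g * (x + y) * ρ g⁻¹ - (x + y) by
          noncomm_ring] at this
      neg_mem' := fun {x} hx g => by
        have := (flag ρ k).neg_mem (hx g)
        rwa [show -(ρ g * x * ρ g⁻¹ - x) = ρ g * -x * ρ g⁻¹ - -x by noncomm_ring] at this }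

theorem mem_flag_succ {k : ℕ} {x : R} :
    x ∈ flag ρ (k + 1) ↔ ∀ g : G, ρ g * x * ρ g⁻¹ - x ∈ flag ρ k := Iff.rfl

theorem flag_conj (k : ℕ) : ∀ {x : R}, x ∈ flag ρ k → ∀ h : G, ρ h * x * ρ h⁻¹ ∈ flag ρ k := by
  induction k with
  | zero => intro x hx h; simp [AddSubgroup.mem_bot.mp hx]
  | succ k ih =>
    intro x hx h g
    have := ih (hx (h⁻¹ * g * h)) h
    rw [mul_inv_rev, mul_inv_rev, inv_inv, map_mul, map_mul, map_mul, map_mul] at this
    convert this using 1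
    have hh : ρ h * ρ h⁻¹ = 1 := by rw [← map_mul, mul_inv_cancel, map_one]
    calc ρ g * (ρ h * x * ρ h⁻¹) * ρ g⁻¹ - ρ h * x * ρ h⁻¹
        = (ρ h * ρ h⁻¹) * ρ g * ρ h * x * ρ h⁻¹ * ρ g⁻¹ * (ρ h * ρ h⁻¹) - ρ h * x * ρ h⁻¹ := by
          rw [hh]; noncomm_ring
      _ = _ := by noncomm_ring

theorem flag_le_succ (k : ℕ) : flag ρ k ≤ flag ρ (k + 1) :=
  fun _ hx g => (flag ρ k).sub_mem (flag_conj k hx g) hx

theorem exists_flag_eq_top [Finite R] (hp0 : (p : R) = 0) (hG : IsPGroup p G) :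
    flag ρ (Nat.card R) = ⊤ := by
  classical
  suffices h : ∀ k, flag ρ k = ⊤ ∨ k + 1 ≤ Nat.card (flag ρ k) by
    rcases h (Nat.card R) with h1 | h1
    · exact h1
    · have := Nat.card_le_card_of_injective (Subtype.val : flag ρ (Nat.card R) → R) Subtype.val_injective
      omega
  intro k
  induction k with
  | zero => exact Or.inr Nat.card_pos
  | succ k ih =>
    rcases ih with h | h
    · exact Or.inl (top_unique (h ▸ flag_le_succ k))
    by_cases ht : flag ρ k = ⊤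
    · exact Or.inl (top_unique (ht ▸ flag_le_succ k))
    right
    set F := flag ρ k
    letI : MulAction G (R ⧸ F) :=
      { smul := fun g => Quotient.map' (fun x => ρ g * x * ρ g⁻¹) fun x y hxy => by
          rw [QuotientAddGroup.leftRel_apply] at hxy ⊢
          have := flag_conj k hxy g
          rwa [show ρ g * (-x + y) * ρ g⁻¹ = -(ρ g * x * ρ g⁻¹) + ρ g * y * ρ g⁻¹ by noncomm_ring] at this
        one_smul := by
          rintro ⟨x⟩
          exact congrArg (QuotientAddGroup.mk (s := F)) (show ρ 1 * x * ρ 1⁻¹ = x by simp)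
        mul_smul := by
          rintro g g' ⟨x⟩
          exact congrArg (QuotientAddGroup.mk (s := F))
            (show ρ (g * g') * x * ρ (g * g')⁻¹ = ρ g * (ρ g' * x * ρ g'⁻¹) * ρ g⁻¹ by
              simp [mul_assoc]) }
    have h0 : (QuotientAddGroup.mk 0 : R ⧸ F) ∈ MulAction.fixedPoints G (R ⧸ F) := fun g =>
      congrArg (QuotientAddGroup.mk (s := F)) (show ρ g * 0 * ρ g⁻¹ = 0 by simp)
    have hdvd : p ∣ Nat.card (R ⧸ F) := by
      haveI : Nontrivial (R ⧸ F) := QuotientAddGroup.nontrivial_iff.mpr ht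
      obtain ⟨z, hz⟩ := exists_ne (0 : R ⧸ F)
      have h1 : addOrderOf z ∣ p := by
        refine addOrderOf_dvd_of_nsmul_eq_zero ?_
        obtain ⟨x, rfl⟩ := QuotientAddGroup.mk_surjective z
        rw [← QuotientAddGroup.mk_nsmul, nsmul_eq_mul, hp0, zero_mul]
        rfl
      rcases (Nat.dvd_prime hp.out).mp h1 with h2 | h2
      · exact absurd (AddMonoid.addOrderOf_eq_one_iff.mp h2) hz
      · exact h2 ▸ addOrderOf_dvd_natCard z
    obtain ⟨z, hz, hne⟩ := hG.exists_fixed_point_of_prime_dvd_card_of_fixed_point (R ⧸ F) hdvd h0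
    obtain ⟨x, rfl⟩ := QuotientAddGroup.mk_surjective z
    have hx : x ∈ flag ρ (k + 1) := fun g => by
      have := QuotientAddGroup.eq.mp (hz g).symm
      rwa [neg_add_eq_sub] at this
    have hxF : x ∉ F := fun hx' => hne (by
      rw [eq_comm, QuotientAddGroup.eq, add_zero]
      exact F.neg_mem hx')
    have hlt : (F : Set R).ncard < (flag ρ (k + 1) : Set R).ncard :=
      Set.ncard_lt_ncard (Set.ssubset_iff_of_subset (flag_le_succ k) |>.mpr ⟨x, hx, hxF⟩) (Set.toFinite _)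
    rw [← Nat.card_coe_set_eq, ← Nat.card_coe_set_eq] at hlt
    exact Nat.succ_le_of_lt (lt_of_le_of_lt h hlt)

variable [Finite R] [Finite G]

/-- The vectors fixed by `A`. -/
def fixCol (ρ : G →* R) (col : AddSubgroup R) (A : Subgroup G) : AddSubgroup R where
  carrier := {x | x ∈ col ∧ ∀ a ∈ A, (ρ a - 1) * x = 0}
  zero_mem' := ⟨col.zero_mem, fun _ _ => mul_zero _⟩
  add_mem' := fun hx hy => ⟨col.add_mem hx.1 hy.1, fun a ha => by rw [mul_add, hx.2 a ha, hy.2 a ha, add_zero]⟩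
  neg_mem' := fun hx => ⟨col.neg_mem hx.1, fun a ha => by rw [mul_neg, hx.2 a ha, neg_zero]⟩

/-- The measure that increases. -/
noncomputable def height (ρ : G →* R) (A : Subgroup G) : ℕ :=
  ∑ i ∈ Finset.range (Nat.card R + 1), Nat.card ↥(lin ρ A ⊓ flag ρ i)

/-- The replacement step. -/
theorem exists_higher (hρ : Function.Injective ρ) (hp2 : p ≠ 2) (hp0 : (p : R) = 0) (hG : IsPGroup p G)
    {col : AddSubgroup R} (hcol : ∀ g : G, ∀ x ∈ col, ρ g * x * ρ g⁻¹ ∈ col)
    {A K : Subgroup G} (hA : Quad ρ A) (hAK : A ≤ K) (hKA : K ≤ Subgroup.normalizer (A : Set G))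
    {b : G} (hbK : b ∈ Subgroup.normalizer (K : Set G)) (hb : b ∉ Subgroup.normalizer (A : Set G))
    (hu : (ρ b - 1) * (ρ b - 1) = 0) :
    ∃ A' : Subgroup G, A' ≤ K ∧ Quad ρ A' ∧ A' ≠ ⊥ ∧
      Nat.card A * Nat.card (fixCol ρ col A) ≤ Nat.card A' * Nat.card (fixCol ρ col A') ∧
      height ρ A < height ρ A' := by
  classical
  set u := ρ b - 1 with hudef
  have eb : ρ b = 1 + u := by rw [hudef, add_sub_cancel]
  have ebi : ρ b⁻¹ = 1 - u := by
    have h1 : ρ b⁻¹ * ρ b = 1 := by rw [← map_mul, inv_mul_cancel, map_one]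
    calc ρ b⁻¹ = ρ b⁻¹ * ρ b * (1 - u) := by
          rw [mul_assoc, eb, show (1 + u) * (1 - u) = 1 - u * u by noncomm_ring, hu, sub_zero, mul_one]
      _ = _ := by rw [h1, one_mul]
  have hplus : ∀ x : R, ρ b * x * ρ b⁻¹ = x + dmap u x + emap u x := fun x => by
    rw [eb, ebi, dmap, emap]; noncomm_ring
  have hminus : ∀ x : R, ρ b⁻¹ * x * ρ b = x - dmap u x + emap u x := fun x => by
    rw [eb, ebi, dmap, emap]; noncomm_ring
  -- invariant subgroups absorb both derivatives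
  have hde : ∀ S : AddSubgroup R, ∀ x : R, x ∈ S → ρ b * x * ρ b⁻¹ ∈ S → ρ b⁻¹ * x * ρ b ∈ S →
      dmap u x ∈ S ∧ emap u x ∈ S := by
    intro S x hx h1 h2
    rw [hplus] at h1
    rw [hminus] at h2
    refine ⟨half_mem hp2 hp0 ?_, half_mem hp2 hp0 ?_⟩
    · have := S.sub_mem h1 h2
      rwa [show x + dmap u x + emap u x - (x - dmap u x + emap u x) = dmap u x + dmap u x by abel] at this
    · have := S.sub_mem (S.add_mem h1 h2) (S.add_mem hx hx)
      rwa [show x + dmap u x + emap u x + (x - dmap u x + emap u x) - (x + x) = emap u x + emap u x by abel]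
        at this
  have hflag : ∀ i, ∀ x ∈ flag ρ i, dmap u x ∈ flag ρ i ∧ emap u x ∈ flag ρ i := fun i x hx =>
    hde _ x hx (flag_conj i hx b) (by simpa using flag_conj i hx b⁻¹)
  have hflag' : ∀ i, ∀ x ∈ flag ρ (i + 1), dmap u x ∈ flag ρ i ∧ emap u x ∈ flag ρ i := by
    intro i x hx
    have h1 := hx b
    have h2 := hx b⁻¹
    rw [inv_inv] at h2
    rw [hplus, show x + dmap u x + emap u x - x = dmap u x + emap u x by abel] at h1
    rw [hminus, show x - dmap u x + emap u x - x = -dmap u x + emap u x by abel] at h2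
    refine ⟨half_mem hp2 hp0 ?_, half_mem hp2 hp0 ?_⟩
    · have := (flag ρ i).sub_mem h1 h2
      rwa [show dmap u x + emap u x - (-dmap u x + emap u x) = dmap u x + dmap u x by abel] at this
    · have := (flag ρ i).add_mem h1 h2
      rwa [show dmap u x + emap u x + (-dmap u x + emap u x) = emap u x + emap u x by abel] at this
  set L := lin ρ A with hL
  set L' := lead u L with hL'
  have hLL : ∀ v ∈ L', ∀ w ∈ L', v * w = 0 := fun v hv w hw =>
    lead_mul_eq_zero hu (fun a ha c hc => lin_mul_eq_zero hA ha hc) hv hw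
  -- realisation in `K`
  set Ap := A.map (MulAut.conj b).toMonoidHom with hAp
  set Am := A.map (MulAut.conj b⁻¹).toMonoidHom with hAm
  have hconjK : ∀ c : G, c ∈ Subgroup.normalizer (K : Set G) →
      A.map (MulAut.conj c).toMonoidHom ≤ K ∧
        K ≤ Subgroup.normalizer ((A.map (MulAut.conj c).toMonoidHom : Subgroup G) : Set G) := by
    intro c hc
    refine ⟨?_, fun x hx => ?_⟩
    · rintro _ ⟨a, ha, rfl⟩
      exact (Subgroup.mem_normalizer_iff.mp hc a).mp (hAK ha)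
    · refine Subgroup.mem_normalizer_fintype ?_
      rintro _ ⟨a, ha, rfl⟩
      refine ⟨c⁻¹ * x * c * a * (c⁻¹ * x * c)⁻¹,
        (Subgroup.mem_normalizer_iff.mp (hKA ((Subgroup.mem_normalizer_iff''.mp hc x).mp hx)) a).mp ha, ?_⟩
      simp [mul_assoc]
  have hbK' : b⁻¹ ∈ Subgroup.normalizer (K : Set G) := inv_mem hbK
  have hmemp : ∀ y ∈ L, ρ b * y * ρ b⁻¹ ∈ lin ρ Ap ∧ ρ b⁻¹ * y * ρ b ∈ lin ρ Am := by
    intro y hy
    obtain ⟨a, ha, ea⟩ := exists_of_mem_lin hA hy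
    have hbb : ρ b * ρ b⁻¹ = 1 := by rw [← map_mul, mul_inv_cancel, map_one]
    have hbb' : ρ b⁻¹ * ρ b = 1 := by rw [← map_mul, inv_mul_cancel, map_one]
    constructor
    · have := sub_one_mem_lin (ρ := ρ) (A := Ap) ⟨a, ha, rfl⟩
      convert this using 1
      show _ = ρ (b * a * b⁻¹) - 1
      rw [map_mul, map_mul, ea, mul_add, mul_one, add_mul, hbb, add_sub_cancel_left]
    · have := sub_one_mem_lin (ρ := ρ) (A := Am) ⟨a, ha, rfl⟩
      convert this using 1
      show _ = ρ (b⁻¹ * a * b⁻¹⁻¹) - 1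
      rw [inv_inv, map_mul, map_mul, ea, mul_add, mul_one, add_mul, hbb', add_sub_cancel_left]
  have hreal : ∀ w ∈ L', ∃ g ∈ K, ρ g = 1 + w := by
    intro w hw
    obtain ⟨a, ha, c, hc, d, hd, hwe⟩ := exists_decomp_of_mem_lead hw
    obtain ⟨k, hk⟩ := hp.out.odd_of_ne_two hp2
    have hdouble : ∀ x : R, (k + 1) • (x + x) = x := fun x => by
      rw [← two_nsmul, ← mul_nsmul', show (k + 1) * 2 = p + 1 by omega, succ_nsmul, nsmul_eq_mul, hp0,
        zero_mul, zero_add]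
    set v1 := (k + 1) • (c + d)
    set v2 := (k + 1) • (d - c)
    have hv1 : v1 ∈ L := L.nsmul_mem (L.add_mem hc hd) _
    have hv2 : v2 ∈ L := L.nsmul_mem (L.sub_mem hd hc) _
    have hsum : w = (a - d) + ρ b * v1 * ρ b⁻¹ + ρ b⁻¹ * v2 * ρ b := by
      refine half_eq hp2 hp0 ?_
      have e1 : v1 + v1 = c + d := by rw [← smul_add, hdouble]
      have e2 : v2 + v2 = d - c := by rw [← smul_add, hdouble]
      calc w + w = (a - d) + (a - d) + ρ b * (c + d) * ρ b⁻¹ + ρ b⁻¹ * (d - c) * ρ b := by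
            rw [hplus, hminus, hwe]; simp only [dmap, emap]; noncomm_ring
        _ = (a - d) + (a - d) + ρ b * (v1 + v1) * ρ b⁻¹ + ρ b⁻¹ * (v2 + v2) * ρ b := by rw [e1, e2]
        _ = _ := by noncomm_ring
    have hsq := hLL w hw w hw
    rw [hsum] at hsq ⊢
    exact exists_map_eq_one_add hp2 hp0 hA (quad_conj hA b) (quad_conj hA b⁻¹) hAK (hconjK b hbK).1
      (hconjK b⁻¹ hbK').1 hKA (hconjK b hbK).2 (hconjK b⁻¹ hbK').2 (L.sub_mem ha hd)
      (hmemp v1 hv1).1 (hmemp v2 hv2).2 hsq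
  let A' : Subgroup G :=
    { carrier := {g | g ∈ K ∧ ρ g - 1 ∈ L'}
      one_mem' := ⟨K.one_mem, by rw [map_one, sub_self]; exact L'.zero_mem⟩
      mul_mem' := fun {g g'} hg hg' => ⟨K.mul_mem hg.1 hg'.1, by
        have h0 := hLL _ hg.2 _ hg'.2
        have : ρ (g * g') - 1 = (ρ g - 1) + (ρ g' - 1) + (ρ g - 1) * (ρ g' - 1) := by
          rw [map_mul]; noncomm_ring
        rw [this, h0, add_zero]
        exact L'.add_mem hg.2 hg'.2⟩
      inv_mem' := fun {g} hg => ⟨K.inv_mem hg.1, by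
        have h0 := hLL _ hg.2 _ hg.2
        have h1 : ρ g⁻¹ * ρ g = 1 := by rw [← map_mul, inv_mul_cancel, map_one]
        have : ρ g⁻¹ - 1 = -(ρ g - 1) := by
          calc ρ g⁻¹ - 1 = ρ g⁻¹ * (1 - (ρ g - 1) * (ρ g - 1)) - 1 := by rw [h0, sub_zero, mul_one]
            _ = ρ g⁻¹ * ρ g * (2 - ρ g) - 1 := by noncomm_ring
            _ = -(ρ g - 1) := by rw [h1]; noncomm_ring
        rw [this]
        exact L'.neg_mem hg.2⟩ }
  have hq' : Quad ρ A' := fun x hx y hy => hLL _ hx.2 _ hy.2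
  have hlin : lin ρ A' = L' := by
    refine le_antisymm ((AddSubgroup.closure_le _).mpr ?_) fun w hw => ?_
    · rintro _ ⟨g, hg, rfl⟩; exact hg.2
    · obtain ⟨g, hg, eg⟩ := hreal w hw
      have hm : g ∈ A' := ⟨hg, by rw [eg, add_sub_cancel_left]; exact hw⟩
      have := sub_one_mem_lin (ρ := ρ) hm
      rwa [eg, add_sub_cancel_left] at this
  have hcard : Nat.card A ≤ Nat.card A' := by
    rw [← card_lin hρ hA, ← card_lin hρ hq', hlin]
    exact card_le_card_lead hu L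
  have hA1 : A ≠ ⊥ := fun h => hb (by
    rw [h]; exact (Subgroup.normalizer_eq_top (H := (⊥ : Subgroup G))).ge (Subgroup.mem_top b))
  refine ⟨A', fun g hg => hg.1, hq', fun h => ?_, Nat.mul_le_mul hcard ?_, ?_⟩
  · have h2 := Finite.one_lt_card_iff_nontrivial.mpr ((Subgroup.nontrivial_iff_ne_bot A).mpr hA1)
    rw [h, Subgroup.card_bot] at hcard
    omega
  · refine (card_le_card_lead hu (fixCol ρ col A)).trans
      (Nat.card_le_card_of_injective
        (fun x : lead u (fixCol ρ col A) => (⟨x.1, ?_, fun g hg => ?_⟩ : fixCol ρ col A'))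
        fun x y h => Subtype.ext (congrArg (fun z => z.1) h :))
    · refine lead_le (F := col) (S := fixCol ρ col A) (fun x hx => hx.1) (fun x hx => ?_) (fun x hx => ?_) x.2
      · exact (hde col x hx.1 (hcol b x hx.1) (by simpa using hcol b⁻¹ x hx.1)).1
      · exact (hde col x hx.1 (hcol b x hx.1) (by simpa using hcol b⁻¹ x hx.1)).2
    · refine lead_mul_eq_zero hu (fun a ha c hc => ?_) hg.2 x.2
      obtain ⟨a', ha', ea⟩ := exists_of_mem_lin hA ha
      have := hc.2 a' ha'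
      rwa [ea, add_sub_cancel_left] at this
  -- the height
  have hN := exists_flag_eq_top (ρ := ρ) hp0 hG
  have hex : ∃ i ≤ Nat.card R, ∃ y ∈ L ⊓ flag ρ i, dmap u y ∉ L ∨ emap u y ∉ L := by
    by_contra! hno
    apply hb
    refine Subgroup.mem_normalizer_fintype fun a ha => ?_
    have hy : ρ a - 1 ∈ L := sub_one_mem_lin ha
    obtain ⟨h1, h2⟩ := hno _ le_rfl (ρ a - 1) ⟨hy, hN ▸ AddSubgroup.mem_top _⟩
    obtain ⟨a', ha', ea'⟩ := exists_of_mem_lin hA (L.add_mem (L.add_mem hy h1) h2)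
    have : ρ (b * a * b⁻¹) = ρ a' := by
      rw [ea', ← hplus, map_mul, map_mul, mul_sub, sub_mul, mul_one, ← map_mul ρ b b⁻¹,
        mul_inv_cancel, map_one, add_sub_cancel]
    rw [hρ this]
    exact ha'
  obtain ⟨hiN, y, hy, hynot⟩ := Nat.find_spec hex
  obtain ⟨j, hj⟩ : ∃ j, Nat.find hex = j + 1 := by
    refine ⟨Nat.find hex - 1, (Nat.succ_pred_eq_of_pos (Nat.pos_of_ne_zero fun h0 => ?_)).symm⟩
    rw [h0] at hy
    have hy0 : y = 0 := AddSubgroup.mem_bot.mp hy.2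
    rcases hynot with h | h <;> exact h (by simp [hy0, dmap, emap])
  have hmin : ∀ x ∈ L ⊓ flag ρ j, dmap u x ∈ L ∧ emap u x ∈ L := by
    intro x hx
    have := Nat.find_min hex (show j < Nat.find hex by omega)
    push Not at this
    exact this (by omega) x hx
  rw [hj] at hy hiN
  have hle : ∀ i, Nat.card ↥(lead u (L ⊓ flag ρ i)) ≤ Nat.card ↥(lin ρ A' ⊓ flag ρ i) := fun i => by
    refine Nat.card_le_card_of_injective (fun x => (⟨x.1, ?_, ?_⟩ : ↥(lin ρ A' ⊓ flag ρ i)))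
      fun x y h => Subtype.ext (congrArg (fun z => z.1) h :)
    · rw [hlin]; exact lead_mono inf_le_left x.2
    · exact lead_le inf_le_right (fun z hz => (hflag i z hz.2).1) (fun z hz => (hflag i z hz.2).2) x.2
  refine Finset.sum_lt_sum (fun i _ => (card_le_card_lead hu (L ⊓ flag ρ i)).trans (hle i))
    ⟨j, Finset.mem_range.mpr (by omega), ?_⟩
  -- strict at `j`
  obtain ⟨z, hz1, hz2, hz3⟩ : ∃ z, z ∈ lead u (L ⊓ flag ρ (j + 1)) ∧ z ∈ flag ρ j ∧ z ∉ L := by
    obtain ⟨hdy, hey⟩ := hflag' j y hy.2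
    by_cases he : emap u y ∈ L
    · exact ⟨_, dmap_mem_lead hu hy ⟨he, (hflag (j + 1) y hy.2).2⟩, hdy, hynot.resolve_right (not_not.mpr he)⟩
    · exact ⟨_, emap_mem_lead hy, hey, he⟩
  have hsub : ((L ⊓ flag ρ j : AddSubgroup R) : Set R) ⊂ ((lin ρ A' ⊓ flag ρ j : AddSubgroup R) : Set R) := by
    refine (Set.ssubset_iff_of_subset ?_).mpr ⟨z, ⟨hlin ▸ lead_mono inf_le_left hz1, hz2⟩, fun h => hz3 h.1⟩
    intro x hx
    refine ⟨?_, hx.2⟩
    rw [hlin]
    exact lead_mono inf_le_left (le_lead_of_invariant hu (S := L ⊓ flag ρ j)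
      (fun t ht => ⟨(hmin t ht).1, (hflag j t ht.2).1⟩) (fun t ht => ⟨(hmin t ht).2, (hflag j t ht.2).2⟩) hx)
  have := Set.ncard_lt_ncard hsub (Set.toFinite _)
  rwa [← Nat.card_coe_set_eq, ← Nat.card_coe_set_eq] at this

end CfsgLib.Techniques.QuadOffender
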